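/-
Certificate data of a part of a coset enumeration of Fi24.
-/
import Cfsg.Agent.Lib.CosetEnum.Sound
import Cfsg.Agent.Lib.CosetEnum.Cox
import Cfsg.Agent.Lib.CosetEnum.Fi24Table.Seed.Facts0

set_option autoImplicit false
set_option Elab.async false
set_option maxRecDepth 1000000

namespace CfsgLib.CosetEnum.Fi24Table.Seed

open CfsgLib.CosetEnum

variable {Ω : Type} (base : Ω) (s : ℕ → Ω → Ω) (hinv : ∀ x v, s x (s x v) = v) (hk : ∀ v, s data.k v = v)
  (hwh : ∀ w < data.nh, run s (wordOf (data.words.get w)) base = base)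
  (hwr : ∀ w, data.nh ≤ w → w < data.nw → ∀ v, run s (wordOf (data.words.get w)) v = v)

include hinv hk hwh hwr in
theorem holds : ∀ i < 3907, data.Holds base s i := by
  have h0 : ∀ i < 0, data.Holds base s i := fun i hi => absurd hi (Nat.not_lt_zero i)
  have h1 : ∀ i < 2000, data.Holds base s i := fun i hi =>
    Data.okChunk_sound hinv hk hwh hwr just0 0 just0_ok h0 i (by rw [just0_len]; exact hi)
  have h2 : ∀ i < 3907, data.Holds base s i := fun i hi =>
    Data.okChunk_sound hinv hk hwh hwr just1 2000 just1_ok h1 i (by rw [just1_len]; exact hi)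
  exact h2

/-- A packed word fixing the base point. -/
noncomputable def tw0 : ℕ := 0x12345ab65a4563450234a56ba5432101e

theorem walk0_ok : data.walk 3907 tw0 31 0 0 0x1b0002d0003f000510006900087000a5000cf0010b00156001b70021e0028c00f4200dcf002d60026c0021d001b6001560010b000cf000a50008700069000510003f0002d0001b00000
    (fun c p _ => Nat.beq c 0 && Nat.beq p 30) = true := by decide +kernel

include hinv hk hwh hwr in
theorem fix0 : run s (wordOf tw0) base = base := by
  obtain ⟨c, p, _, h, -, e⟩ := Data.walk_sound hinv hk 3907 tw0 (holds base s hinv hk hwh hwr) _ _ _ _ _ walk0_ok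
  rw [Bool.and_eq_true] at h
  rw [Nat.eq_of_beq_eq_true h.1, Nat.eq_of_beq_eq_true h.2, Data.val, if_pos rfl,
    show seg tw0 0 30 = wordOf tw0 by decide +kernel] at e
  exact e

theorem words_ok : okWords data rels hw rots = true := by decide +kernel

end CfsgLib.CosetEnum.Fi24Table.Seed
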